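import Groth.Agent.H50.GFin.Part

/-!
# Closedness of the bad locus; restriction of a finite part (helper50)
-/

set_option autoImplicit false
universe u
open CategoryTheory CategoryTheory.Limits AlgebraicGeometry

namespace Groth.Agent.H50.GFin

/-- If `(a, b) : X ⟶ Y ×[T] Y` is a closed map, `V ⊆ Y` is open and finite over `T`, and `D ⊆ X`
is closed with `a(D), b(D) ⊆ V`, then the image of `D` in `T` is closed. -/
theorem isClosed_image_of_closed_lift {X Y T : Scheme.{u}} (q : Y ⟶ T) (a b : X ⟶ Y)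
    (hab : a ≫ q = b ≫ q) (hj : IsClosedMap ⇑(pullback.lift a b hab))
    (V : Y.Opens) (hV : IsFinite (V.ι ≫ q)) (D : Set ↥X) (hD : IsClosed D)
    (hDa : ∀ d ∈ D, a d ∈ V) (hDb : ∀ d ∈ D, b d ∈ V) :
    IsClosed (⇑(a ≫ q) '' D) := by
  let jj := pullback.lift a b hab
  have hE : IsClosed (⇑jj '' D) := hj D hD
  let ω := kMap q q V
  let φ₁ := pullback.fst q (V.ι ≫ q)
  have hφ₁ : IsFinite φ₁ := inferInstanceAs (IsFinite (pullback.fst q (V.ι ≫ q)))
  have hωφ : ∀ e', pullback.fst q q (ω e') = φ₁ e' := fun e' => kMap_fst_apply q q V e'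
  have hjj1 : ∀ d, pullback.fst q q (jj d) = a d := fun d => by
    rw [← Scheme.Hom.comp_apply, pullback.lift_fst]
  have hjj2 : ∀ d, pullback.snd q q (jj d) = b d := fun d => by
    rw [← Scheme.Hom.comp_apply, pullback.lift_snd]
  have h1 : ⇑a '' D = ⇑φ₁ '' (⇑ω ⁻¹' (⇑jj '' D)) := by
    ext y
    constructor
    · rintro ⟨d, hd, rfl⟩
      obtain ⟨e', he'⟩ := exists_kMap_eq q q V (jj d) (by rw [hjj2]; exact hDb d hd)
      refine ⟨e', ?_, ?_⟩
      · change ω e' ∈ ⇑jj '' D
        rw [he']; exact ⟨d, hd, rfl⟩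
      · rw [← hωφ, he', hjj1]
    · rintro ⟨e', ⟨d, hd, hde⟩, rfl⟩
      refine ⟨d, hd, ?_⟩
      rw [← hωφ, ← hde, hjj1]
  have h2 : IsClosed (⇑a '' D) := by
    rw [h1]
    exact φ₁.isClosedMap _ (hE.preimage ω.continuous)
  have h3 : ⇑(a ≫ q) '' D = ⇑(V.ι ≫ q) '' (⇑V.ι ⁻¹' (⇑a '' D)) := by
    ext y
    constructor
    · rintro ⟨d, hd, rfl⟩
      exact ⟨⟨a d, hDa d hd⟩, ⟨d, hd, rfl⟩, rfl⟩
    · rintro ⟨v, ⟨d, hd, hdv⟩, rfl⟩
      refine ⟨d, hd, ?_⟩
      change q (a d) = q (V.ι v)
      rw [hdv]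
  rw [h3]
  exact (V.ι ≫ q).isClosedMap _ (h2.preimage V.ι.continuous)

variable {S : Scheme.{u}} (G : Grpd.GroupoidScheme S) {S' : Scheme.{u}} (g : S' ⟶ S)

theorem tB_snd : tB G g ≫ pullback.snd G.pU g = pullback.snd G.pR g := by
  rw [pullback.lift_snd, Category.comp_id]

theorem sB_snd : sB G g ≫ pullback.snd G.pU g = pullback.snd G.pR g := by
  rw [pullback.lift_snd, Category.comp_id]

theorem tB_fst : tB G g ≫ pullback.fst G.pU g = pullback.fst G.pR g ≫ G.t :=
  pullback.lift_fst _ _ _

theorem sB_fst : sB G g ≫ pullback.fst G.pU g = pullback.fst G.pR g ≫ G.s :=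
  pullback.lift_fst _ _ _

/-- The base change of `j = (t, s)`. -/
noncomputable def jB : pullback G.pR g ⟶ pullback (pullback.snd G.pU g) (pullback.snd G.pU g) :=
  pullback.lift (tB G g) (sB G g) ((tB_snd G g).trans (sB_snd G g).symm)

/-- The projection `U_{S'} ×[S'] U_{S'} ⟶ U ×[S] U`. -/
noncomputable def mB : pullback (pullback.snd G.pU g) (pullback.snd G.pU g) ⟶ pullback G.pU G.pU :=
  pullback.map _ _ _ _ (pullback.fst G.pU g) (pullback.fst G.pU g) g pullback.condition.symm
    pullback.condition.symm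

theorem isPullback_jB : IsPullback (pullback.fst G.pR g) (jB G g) G.j (mB G g) := by
  have w : pullback.fst G.pR g ≫ G.j = jB G g ≫ mB G g := by
    unfold jB mB Grpd.GroupoidScheme.j
    apply pullback.hom_ext
    · rw [Category.assoc, pullback.lift_fst, Category.assoc, pullback.lift_fst,
        pullback.lift_fst_assoc, tB_fst]
    · rw [Category.assoc, pullback.lift_snd, Category.assoc, pullback.lift_snd,
        pullback.lift_snd_assoc, sB_fst]
  have hj1 : G.j ≫ pullback.fst G.pU G.pU = G.t := pullback.lift_fst _ _ _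
  have hj2 : G.j ≫ pullback.snd G.pU G.pU = G.s := pullback.lift_snd _ _ _
  have hm1 : mB G g ≫ pullback.fst G.pU G.pU =
      pullback.fst (pullback.snd G.pU g) (pullback.snd G.pU g) ≫ pullback.fst G.pU g :=
    pullback.lift_fst _ _ _
  have hm2 : mB G g ≫ pullback.snd G.pU G.pU =
      pullback.snd (pullback.snd G.pU g) (pullback.snd G.pU g) ≫ pullback.fst G.pU g :=
    pullback.lift_snd _ _ _
  have hjB1 : jB G g ≫ pullback.fst (pullback.snd G.pU g) (pullback.snd G.pU g) = tB G g :=
    pullback.lift_fst _ _ _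
  have hjB2 : jB G g ≫ pullback.snd (pullback.snd G.pU g) (pullback.snd G.pU g) = sB G g :=
    pullback.lift_snd _ _ _
  refine ⟨⟨w⟩, ⟨PullbackCone.IsLimit.mk w
    (fun c => pullback.lift c.fst (c.snd ≫ pullback.fst _ _ ≫ pullback.snd G.pU g) ?_) ?_ ?_ ?_⟩⟩
  · have h1 := c.condition
    have h2 : c.fst ≫ G.t = c.snd ≫
        pullback.fst (pullback.snd G.pU g) (pullback.snd G.pU g) ≫ pullback.fst G.pU g := by
      rw [← hj1, ← Category.assoc, h1, Category.assoc, hm1]
    rw [← G.t_over, ← Category.assoc, h2, Category.assoc, Category.assoc, Category.assoc,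
      pullback.condition]
    simp only [Category.assoc]
  · intro c
    exact pullback.lift_fst _ _ _
  · intro c
    have h1 := c.condition
    apply pullback.hom_ext
    · rw [Category.assoc, hjB1]
      apply pullback.hom_ext
      · rw [Category.assoc, tB_fst, pullback.lift_fst_assoc, ← hj1, ← Category.assoc, h1,
          Category.assoc, hm1, Category.assoc]
      · rw [Category.assoc, tB_snd, pullback.lift_snd]
        simp only [Category.assoc]
    · rw [Category.assoc, hjB2]
      apply pullback.hom_ext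
      · rw [Category.assoc, sB_fst, pullback.lift_fst_assoc, ← hj2, ← Category.assoc, h1,
          Category.assoc, hm2, Category.assoc]
      · rw [Category.assoc, sB_snd, pullback.lift_snd]
        simp only [Category.assoc]
        rw [pullback.condition]
  · intro c m hm1' hm2'
    apply pullback.hom_ext
    · rw [pullback.lift_fst, hm1']
    · rw [pullback.lift_snd, ← hm2', Category.assoc, ← Category.assoc (jB G g), hjB1, tB_snd]

instance [UniversallyClosed G.j] : UniversallyClosed (jB G g) :=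
  MorphismProperty.of_isPullback (isPullback_jB G g) inferInstance

end Groth.Agent.H50.GFin
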