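import Groth.Agent.H50.GFin.Pts
import Groth.Agent.H53.ZMT.ElemFamily
import Groth.Agent.H64.Boot5.FirstChartMulti
import Groth.Prelude.Def_Hens2

/-!
# Étale localisation at two finite sets of quasi-finite points (helper50)
-/

set_option autoImplicit false
universe u
open CategoryTheory CategoryTheory.Limits AlgebraicGeometry

namespace Groth.Agent.H50.GFin

open Groth.Agent.H64.Boot5

/-- Two morphisms `h₁ : Z₁ ⟶ T`, `h₂ : Z₂ ⟶ T` (separated, locally of finite type), finite sets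
`A₁ ⊆ Z₁`, `A₂ ⊆ Z₂` of quasi-finite points over `p`.  There is an elementary étale neighbourhood
`(T', p')` of `(T, p)` and open parts `V₁`, `V₂` of the base changes, finite over `T'`, whose
fibres over `p'` are exactly the points over `A₁`, `A₂`. -/
theorem exists_etale_nbhd_two {T : Scheme.{u}} (p : T) {Z₁ Z₂ : Scheme.{u}} (h₁ : Z₁ ⟶ T)
    (h₂ : Z₂ ⟶ T) [LocallyOfFiniteType h₁] [LocallyOfFiniteType h₂] [IsSeparated h₁]
    [IsSeparated h₂] (A₁ : Set ↥Z₁) (A₂ : Set ↥Z₂) (hA₁ : A₁.Finite) (hA₂ : A₂.Finite)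
    (hq₁ : ∀ a ∈ A₁, h₁ a = p ∧ h₁.QuasiFiniteAt a)
    (hq₂ : ∀ a ∈ A₂, h₂ a = p ∧ h₂.QuasiFiniteAt a) :
    ∃ (T' : Scheme.{u}) (g : T' ⟶ T) (p' : T'), Hens2.IsEtaleNbhd g p' p ∧
      IsIso (g.residueFieldMap p') ∧
      ∃ (V₁ : (pullback h₁ g).Opens) (V₂ : (pullback h₂ g).Opens),
        IsFinite (V₁.ι ≫ pullback.snd h₁ g) ∧ IsFinite (V₂.ι ≫ pullback.snd h₂ g) ∧
        (∀ z : ↥(pullback h₁ g), pullback.snd h₁ g z = p' →
          (z ∈ V₁ ↔ pullback.fst h₁ g z ∈ A₁)) ∧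
        (∀ z : ↥(pullback h₂ g), pullback.snd h₂ g z = p' →
          (z ∈ V₂ ↔ pullback.fst h₂ g z ∈ A₂)) := by
  classical
  let K := T.residueField p
  let τ : Spec (.of ↑K) ⟶ T := T.fromSpecResidueField p
  let pt : Spec (.of ↑K) := IsLocalRing.closedPoint K
  have hsub : ∀ z : Spec (.of ↑K), z = pt := fun z => Subsingleton.elim (α := PrimeSpectrum K) _ _
  have hτ : ∀ w, τ w = p := fun w => by
    rw [hsub w]; exact Scheme.fromSpecResidueField_apply _ _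
  let Zf : ↥Z₁ ⊕ ↥Z₂ → Scheme.{u} := fun i => Sum.elim (fun _ => Z₁) (fun _ => Z₂) i
  let hf : ∀ i, Zf i ⟶ T := fun i => match i with
    | .inl _ => h₁
    | .inr _ => h₂
  let zf : ∀ i, Zf i := fun i => match i with
    | .inl a => a
    | .inr b => b
  have hlft : ∀ i, LocallyOfFiniteType (hf i) := fun i => match i with
    | .inl _ => inferInstanceAs (LocallyOfFiniteType h₁)
    | .inr _ => inferInstanceAs (LocallyOfFiniteType h₂)
  let s : Finset (↥Z₁ ⊕ ↥Z₂) := hA₁.toFinset.disjSum hA₂.toFinset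
  have hz : ∀ i ∈ s, (∀ w, τ w = hf i (zf i)) ∧ (hf i).QuasiFiniteAt (zf i) := by
    intro i hi
    match i with
    | .inl a =>
      have ha : a ∈ A₁ := by
        have := Finset.inl_mem_disjSum.mp hi
        rwa [Set.Finite.mem_toFinset] at this
      exact ⟨fun w => (hτ w).trans (hq₁ a ha).1.symm, (hq₁ a ha).2⟩
    | .inr b =>
      have hb : b ∈ A₂ := by
        have := Finset.inr_mem_disjSum.mp hi
        rwa [Set.Finite.mem_toFinset] at this
      exact ⟨fun w => (hτ w).trans (hq₂ b hb).1.symm, (hq₂ b hb).2⟩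
  obtain ⟨T', g, σ, -, hg, hσ, H⟩ :=
    Groth.Agent.H53.ZMT.exists_elementary_etale_finite_family s Zf hf zf τ hz
  have := hg
  let p' : T' := σ pt
  have hσ' : (σ : Spec (T.residueField p) ⟶ T') ≫ g = T.fromSpecResidueField p := hσ
  obtain ⟨hgp, hiso⟩ := isIso_residueFieldMap_of_section g p σ hσ'
  have hσw : ∀ w, σ w = p' := fun w => by rw [hsub w]
  -- the opens
  have H₁ : ∀ a ∈ hA₁.toFinset, ∃ V : (pullback h₁ g).Opens,
      IsFinite (V.ι ≫ pullback.snd h₁ g) ∧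
      (∃ v ∈ V, pullback.fst h₁ g v = a ∧ pullback.snd h₁ g v = p') ∧
      ∀ q ∈ V, pullback.snd h₁ g q = p' → pullback.fst h₁ g q = a := by
    intro a ha
    obtain ⟨V, hV1, ⟨v, hvV, hv1, hv2⟩, hV3⟩ := H (.inl a) (Finset.inl_mem_disjSum.mpr ha)
      (pullback h₁ g) (pullback.fst h₁ g) (pullback.snd h₁ g) (IsPullback.of_hasPullback h₁ g)
    exact ⟨V, hV1, ⟨v, hvV, hv1, (hv2 pt).trans (hσw pt)⟩,
      fun q hq hq' => hV3 q hq ⟨pt, hq'.trans (hσw pt).symm⟩⟩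
  have H₂ : ∀ a ∈ hA₂.toFinset, ∃ V : (pullback h₂ g).Opens,
      IsFinite (V.ι ≫ pullback.snd h₂ g) ∧
      (∃ v ∈ V, pullback.fst h₂ g v = a ∧ pullback.snd h₂ g v = p') ∧
      ∀ q ∈ V, pullback.snd h₂ g q = p' → pullback.fst h₂ g q = a := by
    intro a ha
    obtain ⟨V, hV1, ⟨v, hvV, hv1, hv2⟩, hV3⟩ := H (.inr a) (Finset.inr_mem_disjSum.mpr ha)
      (pullback h₂ g) (pullback.fst h₂ g) (pullback.snd h₂ g) (IsPullback.of_hasPullback h₂ g)
    exact ⟨V, hV1, ⟨v, hvV, hv1, (hv2 pt).trans (hσw pt)⟩,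
      fun q hq hq' => hV3 q hq ⟨pt, hq'.trans (hσw pt).symm⟩⟩
  choose! W₁ hW₁a hW₁b hW₁c using H₁
  choose! W₂ hW₂a hW₂b hW₂c using H₂
  refine ⟨T', g, p', ⟨hg, hgp, (ConcreteCategory.isIso_iff_bijective _).mp hiso⟩, hiso,
    hA₁.toFinset.sup W₁, hA₂.toFinset.sup W₂,
    isFinite_finsetSup_ι_comp (pullback.snd h₁ g) _ W₁ hW₁a,
    isFinite_finsetSup_ι_comp (pullback.snd h₂ g) _ W₂ hW₂a, ?_, ?_⟩
  · intro z hz
    rw [mem_finsetSup_opens]
    constructor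
    · rintro ⟨a, ha, hza⟩
      rw [hW₁c a ha z hza hz]
      exact (Set.Finite.mem_toFinset hA₁).mp ha
    · intro hz1
      have ha : pullback.fst h₁ g z ∈ hA₁.toFinset := (Set.Finite.mem_toFinset hA₁).mpr hz1
      refine ⟨_, ha, ?_⟩
      obtain ⟨v, hvV, hv1, hv2⟩ := hW₁b _ ha
      have : v = z := pullback_point_ext h₁ g v z hv1 (hv2.trans hz.symm) (by rw [hz]; exact hiso)
      exact this ▸ hvV
  · intro z hz
    rw [mem_finsetSup_opens]
    constructor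
    · rintro ⟨a, ha, hza⟩
      rw [hW₂c a ha z hza hz]
      exact (Set.Finite.mem_toFinset hA₂).mp ha
    · intro hz1
      have ha : pullback.fst h₂ g z ∈ hA₂.toFinset := (Set.Finite.mem_toFinset hA₂).mpr hz1
      refine ⟨_, ha, ?_⟩
      obtain ⟨v, hvV, hv1, hv2⟩ := hW₂b _ ha
      have : v = z := pullback_point_ext h₂ g v z hv1 (hv2.trans hz.symm) (by rw [hz]; exact hiso)
      exact this ▸ hvV

end Groth.Agent.H50.GFin
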