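import Groth.Agent.H50.GFin.Pts
import Groth.Agent.H90.GrpdFibre

/-!
# Orbits of points of a groupoid scheme: finiteness and quasi-finiteness (helper50)
-/

set_option autoImplicit false
universe u
open CategoryTheory CategoryTheory.Limits AlgebraicGeometry

namespace Groth.Agent.H50.GFin

open Groth.Agent.H90

variable {S : Scheme.{u}} (G : Grpd.GroupoidScheme S)

theorem c_s : G.c ≫ G.s = pullback.snd G.s G.t ≫ G.s := by
  have h := G.comp_s (pullback.fst G.s G.t) (pullback.snd G.s G.t) pullback.condition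
  have e : pullback.lift (pullback.fst G.s G.t) (pullback.snd G.s G.t) pullback.condition = 𝟙 _ := by
    apply pullback.hom_ext <;> simp
  rwa [e, Category.id_comp] at h

theorem c_t : G.c ≫ G.t = pullback.fst G.s G.t ≫ G.t := by
  have h := G.comp_t (pullback.fst G.s G.t) (pullback.snd G.s G.t) pullback.condition
  have e : pullback.lift (pullback.fst G.s G.t) (pullback.snd G.s G.t) pullback.condition = 𝟙 _ := by
    apply pullback.hom_ext <;> simp
  rwa [e, Category.id_comp] at h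

/-- Composition on the level of points. -/
theorem exists_comp_point (r₁ r₂ : G.R) (h : G.s r₁ = G.t r₂) :
    ∃ r : G.R, G.s r = G.s r₂ ∧ G.t r = G.t r₁ := by
  obtain ⟨π, h1, h2⟩ := Scheme.Pullback.exists_preimage_pullback (f := G.s) (g := G.t) r₁ r₂ h
  refine ⟨G.c π, ?_, ?_⟩
  · rw [← Scheme.Hom.comp_apply, c_s, Scheme.Hom.comp_apply, h2]
  · rw [← Scheme.Hom.comp_apply, c_t, Scheme.Hom.comp_apply, h1]

theorem pU_s_apply (r : G.R) : G.pU (G.s r) = G.pR r := by
  rw [← Scheme.Hom.comp_apply, G.s_over]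

theorem pU_t_apply (r : G.R) : G.pU (G.t r) = G.pR r := by
  rw [← Scheme.Hom.comp_apply, G.t_over]

theorem s_e_apply (x : G.U) : G.s (G.e x) = x := by
  rw [← Scheme.Hom.comp_apply, G.e_s]; rfl

theorem t_e_apply (x : G.U) : G.t (G.e x) = x := by
  rw [← Scheme.Hom.comp_apply, G.e_t]; rfl

/-- If the fibre of `s` over `s r₀` is finite, so is the fibre of `s` over `t r₀`. -/
theorem finite_fibre_of_orbit [LocallyOfFiniteType G.s] (r₀ : G.R)
    (hfin : (⇑G.s ⁻¹' {G.s r₀}).Finite) : (⇑G.s ⁻¹' {G.t r₀}).Finite := by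
  let k := G.R.residueField r₀
  let γ : Spec k ⟶ G.R := G.R.fromSpecResidueField r₀
  let pt : Spec k := IsLocalRing.closedPoint k
  have hγ : γ pt = r₀ := Scheme.fromSpecResidueField_apply _ _
  have hsub : ∀ z : Spec k, z = pt := fun z => Subsingleton.elim (α := PrimeSpectrum k) _ _
  let φ := rtransIso G γ (γ ≫ G.t) (γ ≫ G.s) rfl rfl
  -- the target is a finite set
  have hfin_b : Finite ↥(pullback G.s (γ ≫ G.s)) := by
    rw [← Set.finite_univ_iff]
    have hU : (Set.univ : Set ↥(pullback G.s (γ ≫ G.s))) ⊆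
        ⋃ r ∈ (⇑G.s ⁻¹' {G.s r₀}), {z | pullback.fst G.s (γ ≫ G.s) z = r ∧
          pullback.snd G.s (γ ≫ G.s) z = pt} := by
      intro z _
      simp only [Set.mem_iUnion, Set.mem_ofPred_eq, exists_prop]
      refine ⟨pullback.fst G.s (γ ≫ G.s) z, ?_, rfl, hsub _⟩
      change G.s (pullback.fst G.s (γ ≫ G.s) z) = G.s r₀
      rw [← Scheme.Hom.comp_apply, pullback.condition, Scheme.Hom.comp_apply, hsub (pullback.snd G.s (γ ≫ G.s) z),
        Scheme.Hom.comp_apply, hγ]
    refine (Set.Finite.biUnion hfin ?_).subset hU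
    intro r hr
    have hr' : G.s r = G.s r₀ := hr
    refine finite_points_over_pair' G.s (γ ≫ G.s) r pt ?_
    refine residue_finite_of_quasiFiniteAt G.s r (quasiFiniteAt_of_finite_fibre G.s r ?_)
    rw [hr']; exact hfin
  have hfin_a : Finite ↥(pullback G.s (γ ≫ G.t)) :=
    Finite.of_equiv _ (Scheme.homeoOfIso φ.symm).toEquiv
  refine (Set.finite_range ⇑(pullback.fst G.s (γ ≫ G.t))).subset ?_
  intro r hr
  have hr' : G.s r = G.t r₀ := hr
  have h : G.s r = (γ ≫ G.t) pt := by rw [Scheme.Hom.comp_apply, hγ, hr']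
  obtain ⟨z, hz, -⟩ := Scheme.Pullback.exists_preimage_pullback (f := G.s) (g := γ ≫ G.t) r pt h
  exact ⟨z, hz⟩

/-- Quasi-finiteness of `U → S` propagates along the orbit. -/
theorem quasiFiniteAt_pU_t [LocallyOfFiniteType G.pU] [LocallyOfFiniteType G.s]
    [Flat G.t] [LocallyOfFinitePresentation G.t] (r₀ : G.R)
    (h1 : G.pU.QuasiFiniteAt (G.s r₀)) (h2 : G.s.QuasiFiniteAt r₀) :
    G.pU.QuasiFiniteAt (G.t r₀) := by
  have h3 : (G.s ≫ G.pU).QuasiFiniteAt r₀ := Groth.Agent.H52.QFAt.quasiFiniteAt_comp G.s G.pU r₀ h2 h1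
  have h4 : (G.t ≫ G.pU).QuasiFiniteAt r₀ := by
    have e : G.t ≫ G.pU = G.s ≫ G.pU := G.t_over.trans G.s_over.symm
    rw [e]; exact h3
  exact Groth.Agent.H52.QFAt.quasiFiniteAt_of_comp_of_isOpenMap G.t G.pU G.t.isOpenMap r₀ h4

end Groth.Agent.H50.GFin
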