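import Groth.Agent.H50.GFin.Family
import Groth.Agent.H50.GFin.Orbit

/-!
# Étale localisation of a groupoid scheme at a point with finite `s`-fibre: the finite part
(helper50)
-/

set_option autoImplicit false
universe u
open CategoryTheory CategoryTheory.Limits AlgebraicGeometry

namespace Groth.Agent.H50.GFin

open Groth.Agent.H64.Boot5

variable {S : Scheme.{u}} (G : Grpd.GroupoidScheme S)

/-- The base change of `s`. -/
noncomputable abbrev sB {S' : Scheme.{u}} (g : S' ⟶ S) : pullback G.pR g ⟶ pullback G.pU g :=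
  pullback.map G.pR g G.pU g G.s (𝟙 S') (𝟙 S) ((Category.comp_id _).trans G.s_over.symm)
    ((Category.comp_id _).trans (Category.id_comp _).symm)

/-- The base change of `t`. -/
noncomputable abbrev tB {S' : Scheme.{u}} (g : S' ⟶ S) : pullback G.pR g ⟶ pullback G.pU g :=
  pullback.map G.pR g G.pU g G.t (𝟙 S') (𝟙 S) ((Category.comp_id _).trans G.t_over.symm)
    ((Category.comp_id _).trans (Category.id_comp _).symm)

section
variable {S' : Scheme.{u}} (g : S' ⟶ S)

theorem fst_sB_apply (z : ↥(pullback G.pR g)) :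
    pullback.fst G.pU g (sB G g z) = G.s (pullback.fst G.pR g z) := by
  rw [← Scheme.Hom.comp_apply, ← Scheme.Hom.comp_apply, pullback.lift_fst]

theorem snd_sB_apply (z : ↥(pullback G.pR g)) :
    pullback.snd G.pU g (sB G g z) = pullback.snd G.pR g z := by
  rw [← Scheme.Hom.comp_apply, pullback.lift_snd, Category.comp_id]

theorem fst_tB_apply (z : ↥(pullback G.pR g)) :
    pullback.fst G.pU g (tB G g z) = G.t (pullback.fst G.pR g z) := by
  rw [← Scheme.Hom.comp_apply, ← Scheme.Hom.comp_apply, pullback.lift_fst]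

theorem snd_tB_apply (z : ↥(pullback G.pR g)) :
    pullback.snd G.pU g (tB G g z) = pullback.snd G.pR g z := by
  rw [← Scheme.Hom.comp_apply, pullback.lift_snd, Category.comp_id]

end

/-- The finite part of the étale localisation of a groupoid scheme. -/
theorem exists_finite_part (p : S) (u : G.U) (hu : G.pU u = p) [LocallyOfFiniteType G.pU]
    [IsSeparated G.pU] [IsSeparated G.pR] [Flat G.s] [LocallyOfFinitePresentation G.s] [Flat G.t]
    [LocallyOfFinitePresentation G.t]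
    (hqf : ∃ V : G.U.Opens, u ∈ V ∧ ∀ x ∈ V, G.pU x = p → x = u)
    (hfin : (⇑G.s ⁻¹' {u}).Finite) :
    ∃ (S' : Scheme.{u}) (g : S' ⟶ S) (p' : S') (_ : Hens2.IsEtaleNbhd g p' p)
      (U' : (pullback G.pU g).Opens) (R' : (pullback G.pR g).Opens),
      IsClosed (U' : Set ↥(pullback G.pU g)) ∧ IsClosed (R' : Set ↥(pullback G.pR g)) ∧
      (∃ u' : ↥(pullback G.pU g), u' ∈ U' ∧ pullback.fst G.pU g u' = u ∧
        pullback.snd G.pU g u' = p') ∧
      (∀ u' : ↥(pullback G.pU g), u' ∈ U' → pullback.fst G.pU g u' = u →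
        pullback.snd G.pU g u' = p' →
        {x : ↥(pullback G.pU g) | x ∈ U' ∧ pullback.snd G.pU g x = p'} =
          ⇑(tB G g) '' (⇑(sB G g) ⁻¹' {u'})) ∧
      {r : ↥(pullback G.pR g) | r ∈ R' ∧ pullback.snd G.pR g r = p'} =
        ⇑(sB G g) ⁻¹' {x | x ∈ U' ∧ pullback.snd G.pU g x = p'} ∧
      IsFinite (U'.ι ≫ pullback.snd G.pU g) ∧ IsFinite (R'.ι ≫ pullback.snd G.pR g) ∧
      ⇑(sB G g) '' (R' : Set ↥(pullback G.pR g)) ⊆ U' ∧
      ⇑(tB G g) '' (R' : Set ↥(pullback G.pR g)) ⊆ U' := by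
  classical
  have hlftR : LocallyOfFiniteType G.pR := by
    rw [← G.s_over]; infer_instance
  -- the orbit
  let F : Set ↥G.R := ⇑G.s ⁻¹' {u}
  let O : Set ↥G.U := ⇑G.t '' F
  let F₂ : Set ↥G.R := ⇑G.s ⁻¹' O
  have hO_fin : O.Finite := hfin.image _
  have huO : u ∈ O := ⟨G.e u, s_e_apply G u, t_e_apply G u⟩
  have hO_p : ∀ x ∈ O, G.pU x = p := by
    rintro _ ⟨r, hr, rfl⟩
    have hr' : G.s r = u := hr
    rw [pU_t_apply, ← pU_s_apply, hr', hu]
  have hF₂_fin : F₂.Finite := by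
    have : F₂ = ⋃ x ∈ O, ⇑G.s ⁻¹' {x} := by
      ext r
      simp only [F₂, Set.mem_preimage, Set.mem_iUnion, Set.mem_singleton_iff, exists_prop,
        exists_eq_right']
    rw [this]
    refine Set.Finite.biUnion hO_fin ?_
    rintro _ ⟨r₀, hr₀, rfl⟩
    have hr₀' : G.s r₀ = u := hr₀
    exact finite_fibre_of_orbit G r₀ (by rw [hr₀']; exact hfin)
  have hqf_u : G.pU.QuasiFiniteAt u := by
    rw [Groth.Agent.H52.QFAt.quasiFiniteAt_iff_exists_isOpen]
    obtain ⟨V, huV, hV⟩ := hqf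
    refine ⟨V, V.2, ?_⟩
    ext x
    simp only [Set.mem_inter_iff, Set.mem_preimage, Set.mem_singleton_iff]
    constructor
    · rintro ⟨hxV, hx⟩
      exact hV x hxV (hx.trans hu)
    · rintro rfl
      exact ⟨huV, rfl⟩
  have hqf_O : ∀ x ∈ O, G.pU.QuasiFiniteAt x := by
    rintro _ ⟨r₀, hr₀, rfl⟩
    have hr₀' : G.s r₀ = u := hr₀
    refine quasiFiniteAt_pU_t G r₀ (by rw [hr₀']; exact hqf_u)
      (quasiFiniteAt_of_finite_fibre G.s r₀ (by rw [hr₀']; exact hfin))
  have hO_trans : ∀ r : G.R, G.s r ∈ O → G.t r ∈ O := by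
    intro r hr
    obtain ⟨r₀, hr₀, hr₀t⟩ := hr
    have hr₀' : G.s r₀ = u := hr₀
    obtain ⟨r', h1, h2⟩ := exists_comp_point G r r₀ hr₀t.symm
    exact ⟨r', h1.trans hr₀', h2⟩
  have hq₁ : ∀ a ∈ O, G.pU a = p ∧ G.pU.QuasiFiniteAt a := fun a ha => ⟨hO_p a ha, hqf_O a ha⟩
  have hq₂ : ∀ a ∈ F₂, G.pR a = p ∧ G.pR.QuasiFiniteAt a := by
    intro r hr
    have hr' : G.s r ∈ O := hr
    refine ⟨by rw [← pU_s_apply]; exact hO_p _ hr', ?_⟩
    have h1 : G.s.QuasiFiniteAt r := by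
      refine quasiFiniteAt_of_finite_fibre G.s r ?_
      obtain ⟨r₀, hr₀, hr₀t⟩ := hr'
      have hr₀' : G.s r₀ = u := hr₀
      rw [← hr₀t]
      exact finite_fibre_of_orbit G r₀ (by rw [hr₀']; exact hfin)
    have h2 := Groth.Agent.H52.QFAt.quasiFiniteAt_comp G.s G.pU r h1 (hqf_O _ hr')
    rwa [G.s_over] at h2
  obtain ⟨S', g, p', hnb, hiso, V₁, V₂, fin1, fin2, fib1, fib2⟩ :=
    exists_etale_nbhd_two p G.pU G.pR O F₂ hO_fin hF₂_fin hq₁ hq₂
  have hgp : g p' = p := hnb.base_eq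
  -- uniqueness of points over `p'`
  have hextU : ∀ z z' : ↥(pullback G.pU g), pullback.fst G.pU g z = pullback.fst G.pU g z' →
      pullback.snd G.pU g z = p' → pullback.snd G.pU g z' = p' → z = z' := fun z z' h1 h2 h3 =>
    pullback_point_ext G.pU g z z' h1 (h2.trans h3.symm) (by rw [h3]; exact hiso)
  have hextR : ∀ z z' : ↥(pullback G.pR g), pullback.fst G.pR g z = pullback.fst G.pR g z' →
      pullback.snd G.pR g z = p' → pullback.snd G.pR g z' = p' → z = z' := fun z z' h1 h2 h3 =>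
    pullback_point_ext G.pR g z z' h1 (h2.trans h3.symm) (by rw [h3]; exact hiso)
  have hclU : IsClosed (V₁ : Set ↥(pullback G.pU g)) :=
    isClosed_of_isFinite_ι_comp (pullback.snd G.pU g) V₁ fin1
  have hclR : IsClosed (V₂ : Set ↥(pullback G.pR g)) :=
    isClosed_of_isFinite_ι_comp (pullback.snd G.pR g) V₂ fin2
  let R' : (pullback G.pR g).Opens := V₂ ⊓ (sB G g) ⁻¹ᵁ V₁ ⊓ (tB G g) ⁻¹ᵁ V₁
  have hR'mem : ∀ z, z ∈ R' ↔ z ∈ V₂ ∧ sB G g z ∈ V₁ ∧ tB G g z ∈ V₁ := fun z => by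
    change (z ∈ V₂ ∧ sB G g z ∈ V₁) ∧ tB G g z ∈ V₁ ↔ _
    rw [and_assoc]
  have hR'cl : IsClosed (R' : Set ↥(pullback G.pR g)) := by
    have : (R' : Set ↥(pullback G.pR g)) = ((V₂ : Set ↥(pullback G.pR g)) ∩
        ⇑(sB G g) ⁻¹' (V₁ : Set ↥(pullback G.pU g))) ∩
          ⇑(tB G g) ⁻¹' (V₁ : Set ↥(pullback G.pU g)) := rfl
    rw [this]
    exact (hclR.inter (hclU.preimage (sB G g).continuous)).inter
      (hclU.preimage (tB G g).continuous)
  -- fibre of `R'` over `p'`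
  have fibR' : ∀ z : ↥(pullback G.pR g), pullback.snd G.pR g z = p' →
      (z ∈ R' ↔ pullback.fst G.pR g z ∈ F₂) := by
    intro z hz
    rw [hR'mem, fib2 z hz]
    constructor
    · exact fun h => h.1
    · intro h
      have h' : G.s (pullback.fst G.pR g z) ∈ O := h
      refine ⟨h, ?_, ?_⟩
      · rw [fib1 _ ((snd_sB_apply G g z).trans hz), fst_sB_apply]; exact h'
      · rw [fib1 _ ((snd_tB_apply G g z).trans hz), fst_tB_apply]; exact hO_trans _ h'
  refine ⟨S', g, p', hnb, V₁, R', hclU, hR'cl, ?_, ?_, ?_, fin1, ?_, ?_, ?_⟩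
  · obtain ⟨u', h1, h2⟩ := Scheme.Pullback.exists_preimage_pullback (f := G.pU) (g := g) u p'
      (hu.trans hgp.symm)
    exact ⟨u', (fib1 u' h2).mpr (h1 ▸ huO), h1, h2⟩
  · intro u' hu'U hu'1 hu'2
    ext x
    constructor
    · rintro ⟨hxU, hx2⟩
      have hxO : pullback.fst G.pU g x ∈ O := (fib1 x hx2).mp hxU
      obtain ⟨r, hr, hrt⟩ := hxO
      have hr' : G.s r = u := hr
      obtain ⟨z, hz1, hz2⟩ := Scheme.Pullback.exists_preimage_pullback (f := G.pR) (g := g) r p'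
        (by rw [← pU_s_apply, hr', hu, hgp])
      refine ⟨z, ?_, ?_⟩
      · change sB G g z = u'
        refine hextU _ _ ?_ ((snd_sB_apply G g z).trans hz2) hu'2
        rw [fst_sB_apply, hz1, hr', hu'1]
      · refine hextU _ _ ?_ ((snd_tB_apply G g z).trans hz2) hx2
        rw [fst_tB_apply, hz1, hrt]
    · rintro ⟨z, hz, rfl⟩
      have hz' : sB G g z = u' := hz
      have hz2 : pullback.snd G.pR g z = p' := by
        rw [← snd_sB_apply G g z, hz', hu'2]
      have hzs : G.s (pullback.fst G.pR g z) = u := by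
        rw [← fst_sB_apply, hz', hu'1]
      have h2 : pullback.snd G.pU g (tB G g z) = p' := (snd_tB_apply G g z).trans hz2
      refine ⟨?_, h2⟩
      rw [fib1 _ h2, fst_tB_apply]
      exact ⟨_, hzs, rfl⟩
  · ext z
    constructor
    · rintro ⟨hzR, hz2⟩
      exact ⟨((hR'mem z).mp hzR).2.1, (snd_sB_apply G g z).trans hz2⟩
    · rintro ⟨hzU, hz2⟩
      have hz2' : pullback.snd G.pR g z = p' := by rw [← snd_sB_apply G g z]; exact hz2
      refine ⟨?_, hz2'⟩
      rw [fibR' z hz2']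
      have := (fib1 _ hz2).mp hzU
      rwa [fst_sB_apply] at this
  · exact isFinite_of_le_of_isClosed (pullback.snd G.pR g) R' V₂
      (inf_le_left.trans inf_le_left) hR'cl fin2
  · rintro _ ⟨z, hz, rfl⟩
    exact ((hR'mem z).mp hz).2.1
  · rintro _ ⟨z, hz, rfl⟩
    exact ((hR'mem z).mp hz).2.2

end Groth.Agent.H50.GFin
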