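import Groth.Agent.H50.GFin.Closed

/-!
# Étale localisation of a groupoid scheme: the finite restriction (helper50)
-/

set_option autoImplicit false
universe u
open CategoryTheory CategoryTheory.Limits AlgebraicGeometry

namespace Groth.Agent.H50.GFin

variable {S : Scheme.{u}} {G : Grpd.GroupoidScheme S}

theorem sB_kMap {S₁ : Scheme.{u}} (g₁ : S₁ ⟶ S) (W : S₁.Opens) :
    sB G (W.ι ≫ g₁) ≫ kMap G.pU g₁ W = kMap G.pR g₁ W ≫ sB G g₁ := by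
  apply pullback.hom_ext
  · rw [Category.assoc, kMap_fst, sB_fst, Category.assoc, sB_fst, ← Category.assoc, kMap_fst]
  · rw [Category.assoc, kMap_snd, ← Category.assoc, sB_snd, Category.assoc, sB_snd, kMap_snd]

theorem tB_kMap {S₁ : Scheme.{u}} (g₁ : S₁ ⟶ S) (W : S₁.Opens) :
    tB G (W.ι ≫ g₁) ≫ kMap G.pU g₁ W = kMap G.pR g₁ W ≫ tB G g₁ := by
  apply pullback.hom_ext
  · rw [Category.assoc, kMap_fst, tB_fst, Category.assoc, tB_fst, ← Category.assoc, kMap_fst]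
  · rw [Category.assoc, kMap_snd, ← Category.assoc, tB_snd, Category.assoc, tB_snd, kMap_snd]

theorem sB_kMap_apply {S₁ : Scheme.{u}} (g₁ : S₁ ⟶ S) (W : S₁.Opens)
    (z : ↥(pullback G.pR (W.ι ≫ g₁))) :
    kMap G.pU g₁ W (sB G (W.ι ≫ g₁) z) = sB G g₁ (kMap G.pR g₁ W z) := by
  rw [← Scheme.Hom.comp_apply, sB_kMap, Scheme.Hom.comp_apply]

theorem tB_kMap_apply {S₁ : Scheme.{u}} (g₁ : S₁ ⟶ S) (W : S₁.Opens)
    (z : ↥(pullback G.pR (W.ι ≫ g₁))) :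
    kMap G.pU g₁ W (tB G (W.ι ≫ g₁) z) = tB G g₁ (kMap G.pR g₁ W z) := by
  rw [← Scheme.Hom.comp_apply, tB_kMap, Scheme.Hom.comp_apply]

/-- Restriction of a finite part to an open neighbourhood of the marked point. -/
theorem FinPart.restrict {p : S} {O : Set ↥G.U} {F₂ : Set ↥G.R} {S₁ : Scheme.{u}} {g₁ : S₁ ⟶ S}
    {p₁ : S₁} {U' : (pullback G.pU g₁).Opens} {R' : (pullback G.pR g₁).Opens}
    (H : FinPart G p O F₂ g₁ p₁ U' R') (W : S₁.Opens) (hp : p₁ ∈ W) :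
    FinPart G p O F₂ (W.ι ≫ g₁) ⟨p₁, hp⟩ (kMap G.pU g₁ W ⁻¹ᵁ U') (kMap G.pR g₁ W ⁻¹ᵁ R') := by
  have := H.etale
  have hiso₁ := H.iso
  refine ⟨inferInstance, ?_, ?_, ?_, ?_, isFinite_restrict G.pU g₁ W U' H.finU,
    isFinite_restrict G.pR g₁ W R' H.finR, ?_, ?_, ?_, ?_⟩
  · exact H.base_eq
  · let p₂ : ↥(W.toScheme) := ⟨p₁, hp⟩
    have e : (W.ι ≫ g₁).residueFieldMap p₂ =
        g₁.residueFieldMap (W.ι p₂) ≫ W.ι.residueFieldMap p₂ :=
      Scheme.residueFieldMap_comp W.ι g₁ p₂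
    have h1 : IsIso (g₁.residueFieldMap (W.ι p₂)) := hiso₁
    change IsIso ((W.ι ≫ g₁).residueFieldMap p₂)
    rw [e]
    have h2 : IsIso (W.ι.residueFieldMap p₂) := inferInstance
    exact @IsIso.comp_isIso _ _ _ _ _ _ _ h1 h2
  · exact H.clU.preimage (kMap G.pU g₁ W).continuous
  · exact H.clR.preimage (kMap G.pR g₁ W).continuous
  · intro z hz
    have h1 : pullback.snd G.pU g₁ (kMap G.pU g₁ W z) = p₁ := by
      rw [kMap_snd_apply, hz]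
    change kMap G.pU g₁ W z ∈ U' ↔ _
    rw [H.fibU _ h1, kMap_fst_apply]
  · intro z hz
    have h1 : pullback.snd G.pR g₁ (kMap G.pR g₁ W z) = p₁ := by
      rw [kMap_snd_apply, hz]
    change kMap G.pR g₁ W z ∈ R' ↔ _
    rw [H.fibR _ h1, kMap_fst_apply]
  · intro z hz
    change kMap G.pU g₁ W (sB G (W.ι ≫ g₁) z) ∈ U'
    rw [sB_kMap_apply]
    exact H.sR _ hz
  · intro z hz
    change kMap G.pU g₁ W (tB G (W.ι ≫ g₁) z) ∈ U'
    rw [tB_kMap_apply]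
    exact H.tR _ hz

/-- The finite restriction: as the finite part, with `R' = s'⁻¹(U') ∩ t'⁻¹(U')`. -/
theorem exists_finite_restriction (G : Grpd.GroupoidScheme S) (p : S) (u : G.U) (hu : G.pU u = p)
    [UniversallyClosed G.j] [LocallyOfFiniteType G.pU]
    [IsSeparated G.pU] [IsSeparated G.pR] [Flat G.s] [LocallyOfFinitePresentation G.s] [Flat G.t]
    [LocallyOfFinitePresentation G.t]
    (hqf : ∃ V : G.U.Opens, u ∈ V ∧ ∀ x ∈ V, G.pU x = p → x = u)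
    (hfin : (⇑G.s ⁻¹' {u}).Finite) :
    ∃ (S' : Scheme.{u}) (g : S' ⟶ S) (p' : S') (_ : Hens2.IsEtaleNbhd g p' p)
      (U' : (pullback G.pU g).Opens) (R' : (pullback G.pR g).Opens),
      Concl G u g p' U' R' ∧
      (R' : Set ↥(pullback G.pR g)) =
        ⇑(sB G g) ⁻¹' (U' : Set ↥(pullback G.pU g)) ∩ ⇑(tB G g) ⁻¹' (U' : Set ↥(pullback G.pU g)) := by
  obtain ⟨O, F₂, D, S₁, g₁, p₁, U₁, R₁, H⟩ := exists_finPart G p u hu hqf hfin
  -- the bad locus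
  let Dset : Set ↥(pullback G.pR g₁) :=
    (⇑(sB G g₁) ⁻¹' (U₁ : Set ↥(pullback G.pU g₁)) ∩ ⇑(tB G g₁) ⁻¹' (U₁ : Set ↥(pullback G.pU g₁))) \
      (R₁ : Set ↥(pullback G.pR g₁))
  have hDcl : IsClosed Dset :=
    ((H.clU.preimage (sB G g₁).continuous).inter (H.clU.preimage (tB G g₁).continuous)).sdiff R₁.2
  let B : Set ↥S₁ := ⇑(pullback.snd G.pR g₁) '' Dset
  have hBcl : IsClosed B := by
    have h := isClosed_image_of_closed_lift (pullback.snd G.pU g₁) (tB G g₁) (sB G g₁)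
      ((tB_snd G g₁).trans (sB_snd G g₁).symm) (jB G g₁).isClosedMap U₁ H.finU Dset hDcl
      (fun d hd => hd.1.2) (fun d hd => hd.1.1)
    rwa [tB_snd] at h
  have hpB : p₁ ∉ B := by
    rintro ⟨z, hz, hzp⟩
    apply hz.2
    change z ∈ R₁
    rw [H.fibR z hzp, D.F₂_iff]
    have h1 : sB G g₁ z ∈ U₁ := hz.1.1
    have h2 := (H.fibU _ ((snd_sB_apply G g₁ z).trans hzp)).mp h1
    rwa [fst_sB_apply] at h2
  let W : S₁.Opens := ⟨Bᶜ, hBcl.isOpen_compl⟩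
  have hpW : p₁ ∈ W := hpB
  have H' := H.restrict W hpW
  refine ⟨W, W.ι ≫ g₁, ⟨p₁, hpW⟩, H'.nb, _, _, H'.concl D, ?_⟩
  ext z
  constructor
  · intro hz
    exact ⟨H'.sR z hz, H'.tR z hz⟩
  · rintro ⟨hz1, hz2⟩
    change kMap G.pR g₁ W z ∈ R₁
    by_contra hcon
    have hs : sB G g₁ (kMap G.pR g₁ W z) ∈ U₁ := by
      rw [← sB_kMap_apply]; exact hz1
    have ht : tB G g₁ (kMap G.pR g₁ W z) ∈ U₁ := by
      rw [← tB_kMap_apply]; exact hz2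
    have hB : pullback.snd G.pR g₁ (kMap G.pR g₁ W z) ∈ B :=
      ⟨_, ⟨⟨hs, ht⟩, hcon⟩, rfl⟩
    rw [kMap_snd_apply] at hB
    exact (pullback.snd G.pR (W.ι ≫ g₁) z).2 hB

end Groth.Agent.H50.GFin
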