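import Groth.Agent.H50.GFin.Pts

/-!
# Restricting a base change to an open of the new base (helper50)
-/

set_option autoImplicit false
universe u
open CategoryTheory CategoryTheory.Limits AlgebraicGeometry

namespace Groth.Agent.H50.GFin

variable {S S₁ Z : Scheme.{u}} (h : Z ⟶ S) (g₁ : S₁ ⟶ S) (W : S₁.Opens)

/-- The open immersion `Z ×[S] W ⟶ Z ×[S] S₁`. -/
noncomputable abbrev kMap : pullback h (W.ι ≫ g₁) ⟶ pullback h g₁ :=
  pullback.map h (W.ι ≫ g₁) h g₁ (𝟙 Z) W.ι (𝟙 S) (by simp) (by simp)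

theorem kMap_fst : kMap h g₁ W ≫ pullback.fst h g₁ = pullback.fst h (W.ι ≫ g₁) := by
  rw [pullback.lift_fst, Category.comp_id]

theorem kMap_snd : kMap h g₁ W ≫ pullback.snd h g₁ = pullback.snd h (W.ι ≫ g₁) ≫ W.ι :=
  pullback.lift_snd _ _ _

theorem kMap_fst_apply (z : ↥(pullback h (W.ι ≫ g₁))) :
    pullback.fst h g₁ (kMap h g₁ W z) = pullback.fst h (W.ι ≫ g₁) z := by
  rw [← Scheme.Hom.comp_apply, kMap_fst]

theorem kMap_snd_apply (z : ↥(pullback h (W.ι ≫ g₁))) :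
    pullback.snd h g₁ (kMap h g₁ W z) = (pullback.snd h (W.ι ≫ g₁) z).1 := by
  rw [← Scheme.Hom.comp_apply, kMap_snd]; rfl

theorem isPullback_kMap :
    IsPullback (kMap h g₁ W) (pullback.snd h (W.ι ≫ g₁)) (pullback.snd h g₁) W.ι := by
  refine IsPullback.of_right ?_ (kMap_snd h g₁ W) (IsPullback.of_hasPullback h g₁)
  rw [kMap_fst]
  exact IsPullback.of_hasPullback h (W.ι ≫ g₁)

instance : IsOpenImmersion (kMap h g₁ W) :=
  MorphismProperty.of_isPullback (isPullback_kMap h g₁ W).flip inferInstance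

/-- Finiteness over the base restricts. -/
theorem isFinite_restrict (V : (pullback h g₁).Opens) (hV : IsFinite (V.ι ≫ pullback.snd h g₁)) :
    IsFinite ((kMap h g₁ W ⁻¹ᵁ V).ι ≫ pullback.snd h (W.ι ≫ g₁)) := by
  have sq1 : IsPullback (kMap h g₁ W ∣_ V) (kMap h g₁ W ⁻¹ᵁ V).ι V.ι (kMap h g₁ W) :=
    isPullback_morphismRestrict _ _
  have sq2 := sq1.paste_vert (isPullback_kMap h g₁ W)
  exact MorphismProperty.of_isPullback sq2 hV

/-- A point of `Z ×[S] S₁` over `W` comes from `Z ×[S] W`. -/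
theorem exists_kMap_eq (z : ↥(pullback h g₁)) (hz : pullback.snd h g₁ z ∈ W) :
    ∃ z' : ↥(pullback h (W.ι ≫ g₁)), kMap h g₁ W z' = z := by
  obtain ⟨z', hz', -⟩ := Scheme.exists_preimage_of_isPullback (isPullback_kMap h g₁ W) z
    ⟨pullback.snd h g₁ z, hz⟩ rfl
  exact ⟨z', hz'⟩

theorem kMap_injective : Function.Injective ⇑(kMap h g₁ W) :=
  (kMap h g₁ W).isOpenEmbedding.injective

end Groth.Agent.H50.GFin
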