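import Groth.Agent.H50.GFin.Main
import Groth.Agent.H50.GFin.Restrict

/-!
# The finite part of a groupoid over an étale neighbourhood, as a structure; restriction (helper50)
-/

set_option autoImplicit false
universe u
open CategoryTheory CategoryTheory.Limits AlgebraicGeometry

namespace Groth.Agent.H50.GFin

open Groth.Agent.H64.Boot5

variable {S : Scheme.{u}} (G : Grpd.GroupoidScheme S)

/-- The orbit `O` of `u` and the set `F₂` of arrows with source in the orbit. -/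
structure OrbitData (p : S) (u : G.U) (O : Set ↥G.U) (F₂ : Set ↥G.R) : Prop where
  hu : G.pU u = p
  uO : u ∈ O
  O_of : ∀ r : G.R, G.s r = u → G.t r ∈ O
  of_O : ∀ x ∈ O, ∃ r : G.R, G.s r = u ∧ G.t r = x
  trans : ∀ r : G.R, G.s r ∈ O → G.t r ∈ O
  F₂_iff : ∀ r : G.R, r ∈ F₂ ↔ G.s r ∈ O

/-- A finite part over an étale neighbourhood. -/
structure FinPart (p : S) (O : Set ↥G.U) (F₂ : Set ↥G.R) {S' : Scheme.{u}} (g : S' ⟶ S) (p' : S')
    (U' : (pullback G.pU g).Opens) (R' : (pullback G.pR g).Opens) : Prop where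
  etale : Etale g
  base_eq : g p' = p
  iso : IsIso (g.residueFieldMap p')
  clU : IsClosed (U' : Set ↥(pullback G.pU g))
  clR : IsClosed (R' : Set ↥(pullback G.pR g))
  finU : IsFinite (U'.ι ≫ pullback.snd G.pU g)
  finR : IsFinite (R'.ι ≫ pullback.snd G.pR g)
  fibU : ∀ z : ↥(pullback G.pU g), pullback.snd G.pU g z = p' →
    (z ∈ U' ↔ pullback.fst G.pU g z ∈ O)
  fibR : ∀ z : ↥(pullback G.pR g), pullback.snd G.pR g z = p' →
    (z ∈ R' ↔ pullback.fst G.pR g z ∈ F₂)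
  sR : ∀ z ∈ R', sB G g z ∈ U'
  tR : ∀ z ∈ R', tB G g z ∈ U'

/-- The conclusion of the finite-part statement for given data. -/
def Concl (u : G.U) {S' : Scheme.{u}} (g : S' ⟶ S) (p' : S')
    (U' : (pullback G.pU g).Opens) (R' : (pullback G.pR g).Opens) : Prop :=
  IsClosed (U' : Set ↥(pullback G.pU g)) ∧ IsClosed (R' : Set ↥(pullback G.pR g)) ∧
    (∃ u' : ↥(pullback G.pU g), u' ∈ U' ∧ pullback.fst G.pU g u' = u ∧
      pullback.snd G.pU g u' = p') ∧
    (∀ u' : ↥(pullback G.pU g), u' ∈ U' → pullback.fst G.pU g u' = u →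
      pullback.snd G.pU g u' = p' →
      {x : ↥(pullback G.pU g) | x ∈ U' ∧ pullback.snd G.pU g x = p'} =
        ⇑(tB G g) '' (⇑(sB G g) ⁻¹' {u'})) ∧
    {r : ↥(pullback G.pR g) | r ∈ R' ∧ pullback.snd G.pR g r = p'} =
      ⇑(sB G g) ⁻¹' {x | x ∈ U' ∧ pullback.snd G.pU g x = p'} ∧
    IsFinite (U'.ι ≫ pullback.snd G.pU g) ∧ IsFinite (R'.ι ≫ pullback.snd G.pR g) ∧
    ⇑(sB G g) '' (R' : Set ↥(pullback G.pR g)) ⊆ U' ∧
    ⇑(tB G g) '' (R' : Set ↥(pullback G.pR g)) ⊆ U'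

variable {G}

theorem FinPart.nb {p : S} {O : Set ↥G.U} {F₂ : Set ↥G.R} {S' : Scheme.{u}} {g : S' ⟶ S} {p' : S'}
    {U' : (pullback G.pU g).Opens} {R' : (pullback G.pR g).Opens}
    (H : FinPart G p O F₂ g p' U' R') : Hens2.IsEtaleNbhd g p' p :=
  ⟨H.etale, H.base_eq, (ConcreteCategory.isIso_iff_bijective _).mp H.iso⟩

/-- A finite part satisfies the conclusion. -/
theorem FinPart.concl {p : S} {u : G.U} {O : Set ↥G.U} {F₂ : Set ↥G.R} (D : OrbitData G p u O F₂)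
    {S' : Scheme.{u}} {g : S' ⟶ S} {p' : S'}
    {U' : (pullback G.pU g).Opens} {R' : (pullback G.pR g).Opens}
    (H : FinPart G p O F₂ g p' U' R') : Concl G u g p' U' R' := by
  have hiso := H.iso
  have hextU : ∀ z z' : ↥(pullback G.pU g), pullback.fst G.pU g z = pullback.fst G.pU g z' →
      pullback.snd G.pU g z = p' → pullback.snd G.pU g z' = p' → z = z' := fun z z' h1 h2 h3 =>
    pullback_point_ext G.pU g z z' h1 (h2.trans h3.symm) (by rw [h3]; exact hiso)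
  refine ⟨H.clU, H.clR, ?_, ?_, ?_, H.finU, H.finR, ?_, ?_⟩
  · obtain ⟨u', h1, h2⟩ := Scheme.Pullback.exists_preimage_pullback (f := G.pU) (g := g) u p'
      (D.hu.trans H.base_eq.symm)
    exact ⟨u', (H.fibU u' h2).mpr (h1 ▸ D.uO), h1, h2⟩
  · intro u' hu'U hu'1 hu'2
    ext x
    constructor
    · rintro ⟨hxU, hx2⟩
      have hxO : pullback.fst G.pU g x ∈ O := (H.fibU x hx2).mp hxU
      obtain ⟨r, hr', hrt⟩ := D.of_O _ hxO
      obtain ⟨z, hz1, hz2⟩ := Scheme.Pullback.exists_preimage_pullback (f := G.pR) (g := g) r p'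
        (by rw [← pU_s_apply, hr', D.hu, H.base_eq])
      refine ⟨z, ?_, ?_⟩
      · change sB G g z = u'
        refine hextU _ _ ?_ ((snd_sB_apply G g z).trans hz2) hu'2
        rw [fst_sB_apply, hz1, hr', hu'1]
      · refine hextU _ _ ?_ ((snd_tB_apply G g z).trans hz2) hx2
        rw [fst_tB_apply, hz1, hrt]
    · rintro ⟨z, hz, rfl⟩
      have hz' : sB G g z = u' := hz
      have hz2 : pullback.snd G.pR g z = p' := by
        rw [← snd_sB_apply G g z, hz', hu'2]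
      have hzs : G.s (pullback.fst G.pR g z) = u := by
        rw [← fst_sB_apply, hz', hu'1]
      have h2 : pullback.snd G.pU g (tB G g z) = p' := (snd_tB_apply G g z).trans hz2
      refine ⟨?_, h2⟩
      rw [H.fibU _ h2, fst_tB_apply]
      exact D.O_of _ hzs
  · ext z
    constructor
    · rintro ⟨hzR, hz2⟩
      exact ⟨H.sR z hzR, (snd_sB_apply G g z).trans hz2⟩
    · rintro ⟨hzU, hz2⟩
      have hz2' : pullback.snd G.pR g z = p' := by rw [← snd_sB_apply G g z]; exact hz2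
      refine ⟨?_, hz2'⟩
      rw [H.fibR z hz2', D.F₂_iff]
      have := (H.fibU _ hz2).mp hzU
      rwa [fst_sB_apply] at this
  · rintro _ ⟨z, hz, rfl⟩
    exact H.sR z hz
  · rintro _ ⟨z, hz, rfl⟩
    exact H.tR z hz

/-- Existence of a finite part. -/
theorem exists_finPart (G : Grpd.GroupoidScheme S) (p : S) (u : G.U) (hu : G.pU u = p)
    [LocallyOfFiniteType G.pU]
    [IsSeparated G.pU] [IsSeparated G.pR] [Flat G.s] [LocallyOfFinitePresentation G.s] [Flat G.t]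
    [LocallyOfFinitePresentation G.t]
    (hqf : ∃ V : G.U.Opens, u ∈ V ∧ ∀ x ∈ V, G.pU x = p → x = u)
    (hfin : (⇑G.s ⁻¹' {u}).Finite) :
    ∃ (O : Set ↥G.U) (F₂ : Set ↥G.R), OrbitData G p u O F₂ ∧
    ∃ (S' : Scheme.{u}) (g : S' ⟶ S) (p' : S')
      (U' : (pullback G.pU g).Opens) (R' : (pullback G.pR g).Opens),
      FinPart G p O F₂ g p' U' R' := by
  classical
  have hlftR : LocallyOfFiniteType G.pR := by
    rw [← G.s_over]; infer_instance
  -- the orbit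
  let F : Set ↥G.R := ⇑G.s ⁻¹' {u}
  let O : Set ↥G.U := ⇑G.t '' F
  let F₂ : Set ↥G.R := ⇑G.s ⁻¹' O
  have hO_fin : O.Finite := hfin.image _
  have huO : u ∈ O := ⟨G.e u, s_e_apply G u, t_e_apply G u⟩
  have hO_p : ∀ x ∈ O, G.pU x = p := by
    rintro _ ⟨r, hr, rfl⟩
    have hr' : G.s r = u := hr
    rw [pU_t_apply, ← pU_s_apply, hr', hu]
  have hF₂_fin : F₂.Finite := by
    have : F₂ = ⋃ x ∈ O, ⇑G.s ⁻¹' {x} := by
      ext r
      simp only [F₂, Set.mem_preimage, Set.mem_iUnion, Set.mem_singleton_iff, exists_prop,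
        exists_eq_right']
    rw [this]
    refine Set.Finite.biUnion hO_fin ?_
    rintro _ ⟨r₀, hr₀, rfl⟩
    have hr₀' : G.s r₀ = u := hr₀
    exact finite_fibre_of_orbit G r₀ (by rw [hr₀']; exact hfin)
  have hqf_u : G.pU.QuasiFiniteAt u := by
    rw [Groth.Agent.H52.QFAt.quasiFiniteAt_iff_exists_isOpen]
    obtain ⟨V, huV, hV⟩ := hqf
    refine ⟨V, V.2, ?_⟩
    ext x
    simp only [Set.mem_inter_iff, Set.mem_preimage, Set.mem_singleton_iff]
    constructor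
    · rintro ⟨hxV, hx⟩
      exact hV x hxV (hx.trans hu)
    · rintro rfl
      exact ⟨huV, rfl⟩
  have hqf_O : ∀ x ∈ O, G.pU.QuasiFiniteAt x := by
    rintro _ ⟨r₀, hr₀, rfl⟩
    have hr₀' : G.s r₀ = u := hr₀
    refine quasiFiniteAt_pU_t G r₀ (by rw [hr₀']; exact hqf_u)
      (quasiFiniteAt_of_finite_fibre G.s r₀ (by rw [hr₀']; exact hfin))
  have hO_trans : ∀ r : G.R, G.s r ∈ O → G.t r ∈ O := by
    intro r hr
    obtain ⟨r₀, hr₀, hr₀t⟩ := hr
    have hr₀' : G.s r₀ = u := hr₀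
    obtain ⟨r', h1, h2⟩ := exists_comp_point G r r₀ hr₀t.symm
    exact ⟨r', h1.trans hr₀', h2⟩
  have hq₁ : ∀ a ∈ O, G.pU a = p ∧ G.pU.QuasiFiniteAt a := fun a ha => ⟨hO_p a ha, hqf_O a ha⟩
  have hq₂ : ∀ a ∈ F₂, G.pR a = p ∧ G.pR.QuasiFiniteAt a := by
    intro r hr
    have hr' : G.s r ∈ O := hr
    refine ⟨by rw [← pU_s_apply]; exact hO_p _ hr', ?_⟩
    have h1 : G.s.QuasiFiniteAt r := by
      refine quasiFiniteAt_of_finite_fibre G.s r ?_
      obtain ⟨r₀, hr₀, hr₀t⟩ := hr'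
      have hr₀' : G.s r₀ = u := hr₀
      rw [← hr₀t]
      exact finite_fibre_of_orbit G r₀ (by rw [hr₀']; exact hfin)
    have h2 := Groth.Agent.H52.QFAt.quasiFiniteAt_comp G.s G.pU r h1 (hqf_O _ hr')
    rwa [G.s_over] at h2
  have hD : OrbitData G p u O F₂ :=
    ⟨hu, huO, fun r hr => ⟨r, hr, rfl⟩, fun x hx => hx, hO_trans, fun r => Iff.rfl⟩
  refine ⟨O, F₂, hD, ?_⟩
  obtain ⟨S', g, p', hnb, hiso, V₁, V₂, fin1, fin2, fib1, fib2⟩ :=
    exists_etale_nbhd_two p G.pU G.pR O F₂ hO_fin hF₂_fin hq₁ hq₂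
  have hgp : g p' = p := hnb.base_eq
  have hclU : IsClosed (V₁ : Set ↥(pullback G.pU g)) :=
    isClosed_of_isFinite_ι_comp (pullback.snd G.pU g) V₁ fin1
  have hclR : IsClosed (V₂ : Set ↥(pullback G.pR g)) :=
    isClosed_of_isFinite_ι_comp (pullback.snd G.pR g) V₂ fin2
  let R' : (pullback G.pR g).Opens := V₂ ⊓ (sB G g) ⁻¹ᵁ V₁ ⊓ (tB G g) ⁻¹ᵁ V₁
  have hR'mem : ∀ z, z ∈ R' ↔ z ∈ V₂ ∧ sB G g z ∈ V₁ ∧ tB G g z ∈ V₁ := fun z => by
    change (z ∈ V₂ ∧ sB G g z ∈ V₁) ∧ tB G g z ∈ V₁ ↔ _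
    rw [and_assoc]
  have hR'cl : IsClosed (R' : Set ↥(pullback G.pR g)) := by
    have : (R' : Set ↥(pullback G.pR g)) = ((V₂ : Set ↥(pullback G.pR g)) ∩
        ⇑(sB G g) ⁻¹' (V₁ : Set ↥(pullback G.pU g))) ∩
          ⇑(tB G g) ⁻¹' (V₁ : Set ↥(pullback G.pU g)) := rfl
    rw [this]
    exact (hclR.inter (hclU.preimage (sB G g).continuous)).inter
      (hclU.preimage (tB G g).continuous)
  have fibR' : ∀ z : ↥(pullback G.pR g), pullback.snd G.pR g z = p' →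
      (z ∈ R' ↔ pullback.fst G.pR g z ∈ F₂) := by
    intro z hz
    rw [hR'mem, fib2 z hz]
    constructor
    · exact fun h => h.1
    · intro h
      have h' : G.s (pullback.fst G.pR g z) ∈ O := h
      refine ⟨h, ?_, ?_⟩
      · rw [fib1 _ ((snd_sB_apply G g z).trans hz), fst_sB_apply]; exact h'
      · rw [fib1 _ ((snd_tB_apply G g z).trans hz), fst_tB_apply]; exact hO_trans _ h'
  exact ⟨S', g, p', V₁, R', hnb.etale, hgp, hiso, hclU, hR'cl, fin1,
    isFinite_of_le_of_isClosed (pullback.snd G.pR g) R' V₂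
      (inf_le_left.trans inf_le_left) hR'cl fin2, fib1, fibR',
    fun z hz => ((hR'mem z).mp hz).2.1, fun z hz => ((hR'mem z).mp hz).2.2⟩

end Groth.Agent.H50.GFin
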