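import Mathlib
import Groth.Agent.H52.QFAt
import Groth.Agent.H52.QuasiFiniteAt

/-!
# Points of fibre products over a pair of points; finite fibres (helper50)
-/

set_option autoImplicit false
universe u
open CategoryTheory CategoryTheory.Limits AlgebraicGeometry

namespace Groth.Agent.H50.GFin

open Scheme.Pullback

/-- The points of `X ×[S] Y` over a pair `(x, y)` are finite in number if `κ(y)/κ(g y)` is finite. -/
theorem finite_points_over_pair {X Y S : Scheme.{u}} (f : X ⟶ S) (g : Y ⟶ S) (x : X) (y : Y)
    (hfin : (g.residueFieldMap y).hom.Finite) :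
    {z : ↑(pullback f g) | pullback.fst f g z = x ∧ pullback.snd f g z = y}.Finite := by
  by_cases h : f x = g y
  · let T : Triplet f g := Triplet.mk' x y h
    have hfinT : Finite ↥(Spec T.tensor) := by
      have h1 : (pushout.inl ((S.residueFieldCongr T.hx).inv ≫ f.residueFieldMap T.x)
          ((S.residueFieldCongr T.hy).inv ≫ g.residueFieldMap T.y)).hom.Finite := by
        refine RingHom.finite_isStableUnderBaseChange.pushout_inl RingHom.finite_respectsIso _ _ ?_
        rw [CommRingCat.hom_comp]
        exact RingHom.Finite.comp hfin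
          (RingHom.Finite.of_surjective _ (ConcreteCategory.bijective_of_isIso
            (S.residueFieldCongr T.hy).inv).2)
      let _ : Algebra ↑(X.residueField T.x) ↑T.tensor :=
        (pushout.inl ((S.residueFieldCongr T.hx).inv ≫ f.residueFieldMap T.x)
          ((S.residueFieldCongr T.hy).inv ≫ g.residueFieldMap T.y)).hom.toAlgebra
      have : Module.Finite ↑(X.residueField T.x) ↑T.tensor := h1
      have : IsArtinianRing ↑T.tensor := IsArtinianRing.of_finite ↑(X.residueField T.x) _
      exact inferInstanceAs (Finite (PrimeSpectrum ↑T.tensor))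
    refine (Set.finite_range (fun q : ↥(Spec T.tensor) => carrierEquiv.symm ⟨T, q⟩)).subset ?_
    rintro z ⟨hz1, hz2⟩
    have e : Triplet.ofPoint z = T := Triplet.ext hz1 hz2
    refine ⟨Spec.map (Triplet.tensorCongr e).inv (SpecOfPoint z), ?_⟩
    apply carrierEquiv.injective
    rw [Equiv.apply_symm_apply]
    symm
    rw [carrierEquiv_eq_iff]
    exact ⟨e, rfl⟩
  · convert Set.finite_empty
    ext z
    simp only [Set.mem_ofPred_eq, Set.mem_empty_iff_false, iff_false, not_and]
    rintro rfl rfl
    apply h
    rw [← Scheme.Hom.comp_apply, ← Scheme.Hom.comp_apply, pullback.condition]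

/-- Symmetric version: finiteness of `κ(x)/κ(f x)` suffices. -/
theorem finite_points_over_pair' {X Y S : Scheme.{u}} (f : X ⟶ S) (g : Y ⟶ S) (x : X) (y : Y)
    (hfin : (f.residueFieldMap x).hom.Finite) :
    {z : ↑(pullback f g) | pullback.fst f g z = x ∧ pullback.snd f g z = y}.Finite := by
  have h := finite_points_over_pair g f y x hfin
  have h2 := h.image ⇑(pullbackSymmetry g f).hom
  refine h2.subset ?_
  rintro z ⟨hz1, hz2⟩
  refine ⟨(pullbackSymmetry f g).hom z, ⟨?_, ?_⟩, ?_⟩
  · rw [← Scheme.Hom.comp_apply, pullbackSymmetry_hom_comp_fst]; exact hz2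
  · rw [← Scheme.Hom.comp_apply, pullbackSymmetry_hom_comp_snd]; exact hz1
  · rw [← Scheme.Hom.comp_apply]
    have : (pullbackSymmetry f g).hom ≫ (pullbackSymmetry g f).hom = 𝟙 _ := by
      apply pullback.hom_ext <;> simp
    rw [this]; rfl

/-- Quasi-finiteness at a point makes the residue field extension finite. -/
theorem residue_finite_of_quasiFiniteAt {X Y : Scheme.{u}} (f : X ⟶ Y) (x : X)
    (hx : f.QuasiFiniteAt x) : (f.residueFieldMap x).hom.Finite := by
  have h1 : LocallyQuasiFinite (Spec.map (f.residueFieldMap x)) :=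
    Groth.Agent.H52.locallyQuasiFinite_residueFieldMap f x hx
  have h2 : (f.residueFieldMap x).hom.QuasiFinite :=
    (HasRingHomProperty.Spec_iff (P := @LocallyQuasiFinite)).mp h1
  let _ : Algebra ↑(Y.residueField (f x)) ↑(X.residueField x) := (f.residueFieldMap x).hom.toAlgebra
  have : Algebra.QuasiFinite ↑(Y.residueField (f x)) ↑(X.residueField x) := h2
  exact Module.Finite.of_quasiFinite

/-- A point of a finite fibre of a morphism locally of finite type is a quasi-finite point. -/
theorem quasiFiniteAt_of_finite_fibre {X Y : Scheme.{u}} (f : X ⟶ Y) [LocallyOfFiniteType f]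
    (x : X) (h : (f ⁻¹' {f x}).Finite) : f.QuasiFiniteAt x := by
  rw [Scheme.Hom.quasiFiniteAt_iff_isOpen_singleton_asFiber]
  have hfin : Finite ↥(f.fiber (f x)) := by
    have : Finite ↥(f ⁻¹' {f x}) := h
    exact Finite.of_equiv _ (f.fiberHomeo (f x)).symm.toEquiv
  have hlft : LocallyOfFiniteType (f.fiberToSpecResidueField (f x)) :=
    inferInstanceAs (LocallyOfFiniteType (pullback.snd f (Y.fromSpecResidueField (f x))))
  have hq : LocallyQuasiFinite (f.fiberToSpecResidueField (f x)) :=
    LocallyQuasiFinite.of_finite_preimage_singleton _ (fun _ => Set.toFinite _)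
  have hd := (f.fiberToSpecResidueField (f x)).isDiscrete_preimage_singleton
    ((f.fiberToSpecResidueField (f x)) (f.asFiber x))
  have hmem : f.asFiber x ∈ (f.fiberToSpecResidueField (f x)) ⁻¹'
      {(f.fiberToSpecResidueField (f x)) (f.asFiber x)} := rfl
  have huniv : (f.fiberToSpecResidueField (f x)) ⁻¹'
      {(f.fiberToSpecResidueField (f x)) (f.asFiber x)} = Set.univ := by
    ext w
    simp only [Set.mem_preimage, Set.mem_singleton_iff, Set.mem_univ, iff_true]
    exact Subsingleton.elim _ _
  rw [huniv, isDiscrete_iff_discreteTopology] at hd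
  have : DiscreteTopology ↥(f.fiber (f x)) :=
    (Homeomorph.Set.univ _).symm.isEmbedding.discreteTopology
  exact isOpen_discrete _

/-- An open which is finite over the base of a separated morphism is closed. -/
theorem isClosed_of_isFinite_ι_comp {Z T : Scheme.{u}} (f : Z ⟶ T) [IsSeparated f] (V : Z.Opens)
    (hV : IsFinite (V.ι ≫ f)) : IsClosed (V : Set ↥Z) := by
  have : UniversallyClosed (V.ι ≫ f) := inferInstance
  have : UniversallyClosed V.ι := UniversallyClosed.of_comp_of_isSeparated V.ι f
  have h := V.ι.isClosedMap.isClosed_range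
  rwa [Scheme.Opens.range_ι] at h

/-- A closed-and-open part of an open which is finite over the base is finite over the base. -/
theorem isFinite_of_le_of_isClosed {Z T : Scheme.{u}} (f : Z ⟶ T) (V W : Z.Opens) (hVW : V ≤ W)
    (hV : IsClosed (V : Set ↥Z)) (hW : IsFinite (W.ι ≫ f)) : IsFinite (V.ι ≫ f) := by
  have hcl : IsClosed (Set.range ⇑(Z.homOfLE hVW)) := by
    have : Set.range ⇑(Z.homOfLE hVW) = ⇑W.ι ⁻¹' (V : Set ↥Z) := by
      ext w
      constructor
      · rintro ⟨v, rfl⟩
        change W.ι (Z.homOfLE hVW v) ∈ (V : Set ↥Z)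
        rw [← Scheme.Hom.comp_apply, Scheme.homOfLE_ι]
        exact v.2
      · intro hw
        exact ⟨⟨w.1, hw⟩, Subtype.ext (Scheme.homOfLE_apply' _ _ hw ▸ rfl)⟩
    rw [this]
    exact hV.preimage W.ι.continuous
  have : IsClosedImmersion (Z.homOfLE hVW) := IsClosedImmersion.of_isPreimmersion _ hcl
  have e : V.ι ≫ f = Z.homOfLE hVW ≫ (W.ι ≫ f) := by rw [Scheme.homOfLE_ι_assoc]
  rw [e]
  infer_instance

end Groth.Agent.H50.GFin
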